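import Groth.Agent.Pic13.H35.FinPicOf
import Groth.Agent.Etrest.ConstBasic
import Groth.Agent.S0185

/-!
# `Pic(X)/n` is finite for `X` proper over a separably closed field, `n` invertible
-/

set_option autoImplicit false
universe u
open CategoryTheory CategoryTheory.Limits AlgebraicGeometry

namespace Groth.Agent.Pic13.H35.FinPic

open Groth.Agent.Etcore.Herbrand Groth.Agent.Pic13.H35.FinPicOf

variable {k : Type u} [Field k]

theorem finite_H2 [IsSepClosed k] {X : Scheme.{u}} (f : X ⟶ Spec (CommRingCat.of k)) [IsProper f]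
    (n : ℕ) (hn : (n : k) ≠ 0) : Finite (EtCoh.H X (EtCoh.const X (ZMod n)) 2) := by
  have hn0 : n ≠ 0 := by
    rintro rfl
    exact hn (by simp)
  have : NeZero n := ⟨hn0⟩
  exact Groth.Agent.S0185.result X f n (Nat.pos_of_ne_zero hn0) _
    (Etrest.ConstBasic.isConstructible_const X (ZMod n))
    (Etrest.ConstBasic.killedBy_const X (ZMod n) n (fun m => by
      rw [nsmul_eq_mul, ZMod.natCast_self, zero_mul])) 2

/-- Finitely many invertible modules represent all invertible modules modulo `n`-th powers. -/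
theorem exists_finset [IsSepClosed k] {X : Scheme.{u}} (f : X ⟶ Spec (CommRingCat.of k)) [IsProper f]
    (n : ℕ) (hn : (n : k) ≠ 0) :
    ∃ S : Set (Grpsch.PicGrp.Pic X), S.Finite ∧ ∀ c, ∃ s ∈ S, ∃ d, c = s * d ^ n :=
  FinPicOf.exists_finset f n hn (finite_H2 f n hn)

/-- `Pic(X)/n` is finite. -/
theorem finite_pic_mod [IsSepClosed k] {X : Scheme.{u}} (f : X ⟶ Spec (CommRingCat.of k)) [IsProper f]
    (n : ℕ) (hn : (n : k) ≠ 0) :
    Finite (Additive (Grpsch.PicGrp.Pic X) ⧸ (nsmulAddMonoidHom n :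
      Additive (Grpsch.PicGrp.Pic X) →+ Additive (Grpsch.PicGrp.Pic X)).range) := by
  obtain ⟨S, hS, h⟩ := exists_finset f n hn
  have : Finite S := hS
  refine Finite.of_surjective (fun s : S => QuotientAddGroup.mk (Additive.ofMul s.1)) ?_
  intro q
  obtain ⟨c, rfl⟩ := QuotientAddGroup.mk_surjective q
  obtain ⟨s, hs, d, hd⟩ := h (Additive.toMul c)
  refine ⟨⟨s, hs⟩, ?_⟩
  change (QuotientAddGroup.mk (Additive.ofMul s) : _ ⧸ _) = QuotientAddGroup.mk c
  rw [QuotientAddGroup.eq]
  refine ⟨Additive.ofMul d, ?_⟩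
  change n • Additive.ofMul d = -Additive.ofMul s + c
  have h1 : c = Additive.ofMul (s * d ^ n) := by rw [← hd]; rfl
  rw [h1, ofMul_mul, ofMul_pow]
  abel

end Groth.Agent.Pic13.H35.FinPic
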