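import Groth.Agent.Etcore.KumCount
import Groth.Agent.CurvesA.H1GmPicSurj
import Groth.Agent.CurvesA.MuConst
import Groth.Agent.S0108

/-!
# `Pic(X)/n` is finite as soon as `H²(X, ℤ/n)` is finite

For `X` over a separably closed field in which `n` is invertible.
-/

set_option autoImplicit false
universe u
open CategoryTheory CategoryTheory.Limits AlgebraicGeometry

namespace Groth.Agent.Pic13.H35.FinPicOf

open Groth.Agent.Etcore.Herbrand Groth.Agent.Etcore.KumCount

variable {k : Type u} [Field k]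

theorem invertible {X : Scheme.{u}} (f : X ⟶ Spec (CommRingCat.of k)) (n : ℕ) (hn : (n : k) ≠ 0) :
    IsUnit (n : Γ(X, ⊤)) := by
  have h : IsUnit (n : k) := isUnit_iff_ne_zero.mpr hn
  have := h.map (f.appTop.hom.comp (Scheme.ΓSpecIso (CommRingCat.of k)).inv.hom)
  rwa [map_natCast] at this

/-- The number of classes of `Pic X` modulo `n`-th powers is nonzero (i.e. finite). -/
theorem cok_ne_zero [IsSepClosed k] {X : Scheme.{u}} (f : X ⟶ Spec (CommRingCat.of k))
    (n : ℕ) (hn : (n : k) ≠ 0) (hfin : Finite (EtCoh.H X (EtCoh.const X (ZMod n)) 2)) :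
    cok n (Additive (Grpsch.PicGrp.Pic X)) ≠ 0 := by
  obtain ⟨e⟩ := CurvesA.MuConst.nonempty_iso_const_mu_of_isSepClosed k n hn f
  have he : EtCoh.H X (EtCoh.const X (ZMod n)) 2 ≃ EtCoh.H X (EtCoh.mu X n) 2 :=
    ((EtCoh.HF X 2).mapIso e).addCommGroupIsoToAddEquiv.toEquiv
  have hfin' : Finite (EtCoh.H X (EtCoh.mu X n) 2) := Finite.of_equiv _ he
  have h1 := card_H_mu X n (S0108.result X n (invertible f n hn)) 1
  have h2 : Nat.card (EtCoh.H X (EtCoh.mu X n) (1 + 1)) ≠ 0 :=
    Nat.card_ne_zero.mpr ⟨⟨0⟩, hfin'⟩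
  rw [h1] at h2
  rw [cok_congr n (CurvesA.H1GmPic.picEquiv X)]
  exact left_ne_zero_of_mul h2

/-- Finitely many invertible modules represent all invertible modules modulo `n`-th powers. -/
theorem exists_finset [IsSepClosed k] {X : Scheme.{u}} (f : X ⟶ Spec (CommRingCat.of k))
    (n : ℕ) (hn : (n : k) ≠ 0) (hfin : Finite (EtCoh.H X (EtCoh.const X (ZMod n)) 2)) :
    ∃ S : Set (Grpsch.PicGrp.Pic X), S.Finite ∧ ∀ c, ∃ s ∈ S, ∃ d, c = s * d ^ n := by
  have h := cok_ne_zero f n hn hfin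
  rw [cok] at h
  have hf : Finite (Additive (Grpsch.PicGrp.Pic X) ⧸
      LinearMap.range (mulN n (Additive (Grpsch.PicGrp.Pic X)))) := (Nat.card_ne_zero.mp h).2
  let r : (Additive (Grpsch.PicGrp.Pic X) ⧸ LinearMap.range (mulN n (Additive (Grpsch.PicGrp.Pic X)))) →
      Grpsch.PicGrp.Pic X := fun q => Additive.toMul (Submodule.Quotient.mk_surjective _ q).choose
  refine ⟨Set.range r, Set.finite_range r, fun c => ?_⟩
  refine ⟨r (Submodule.Quotient.mk (Additive.ofMul c)), ⟨_, rfl⟩, ?_⟩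
  have h1 := (Submodule.Quotient.mk_surjective _
    (Submodule.Quotient.mk (p := LinearMap.range (mulN n (Additive (Grpsch.PicGrp.Pic X))))
      (Additive.ofMul c))).choose_spec
  rw [Submodule.Quotient.eq] at h1
  obtain ⟨d, hd⟩ := h1
  rw [mulN_apply] at hd
  refine ⟨(Additive.toMul d)⁻¹, ?_⟩
  have h2 : (Additive.toMul d) ^ n = r (Submodule.Quotient.mk (Additive.ofMul c)) * c⁻¹ := by
    have h3 := congrArg Additive.toMul hd
    rw [toMul_nsmul] at h3
    rw [h3]
    change _ = r _ / c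
    rfl
  rw [inv_pow, h2, mul_inv_rev, inv_inv]
  simp

end Groth.Agent.Pic13.H35.FinPicOf
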